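import Cfsg.Agent.Blocks.AbelianSmallTwo.ElementaryFree
import Cfsg.Agent.Blocks.AbelianFrobenius.IndexThree
import Cfsg.Agent.S4512

/-!
# The rank of the principal block for a free action on an abelian Sylow `2`-subgroup of order at
most sixteen
-/

set_option autoImplicit false
set_option linter.style.haveILetI false

namespace CfsgLib.Blocks.AbelianSmallTwo

open Cfsg CfsgLib

universe u

variable {G : Type u} [Group G] [Finite G] {M : Ideal AlgInt} {P : Sylow 2 G}

/-- The only subgroup orders compatible with a free odd action. -/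
theorem full_of_arith {q o e n j : ℕ} (hq : q = 1 ∨ q = 2 ∨ q = 4 ∨ q = 8 ∨ q = 16)
    (ho : o = 2 ∨ o = 4 ∨ o = 8 ∨ o = 16) (hoq : o ≤ q) (h1 : q = 1 + e * n) (h2 : o = 1 + e * j)
    (he : e ≤ 15) (he1 : e ≠ 1) (hodd : Odd e) (hx : ¬ (q = 16 ∧ e = 3)) : o = q := by
  obtain ⟨t, rfl⟩ := hodd
  have : t ≤ 7 := by omega
  interval_cases t <;> omega

/-- The inertial index of an abelian Sylow `2`-subgroup is odd. -/
theorem odd_relIndex (hab : IsMulCommutative (P : Subgroup G)) : Odd ((Subgroup.centralizer ((P : Subgroup G) : Set G)).relIndex (Subgroup.normalizer ((P : Subgroup G) : Set G))) := by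
  haveI : Fact (Nat.Prime 2) := ⟨Nat.prime_two⟩
  have hPC : (P : Subgroup G) ≤ Subgroup.centralizer ((P : Subgroup G) : Set G) := fun x hx =>
    Subgroup.mem_centralizer_iff.2 fun y hy =>
      congrArg Subtype.val (hab.is_comm.comm (⟨y, hy⟩ : (P : Subgroup G)) ⟨x, hx⟩)
  have h1 := Subgroup.relIndex_dvd_of_le_left
    (Subgroup.normalizer ((P : Subgroup G) : Set G)) hPC
  have h2 : (P : Subgroup G).relIndex (Subgroup.normalizer ((P : Subgroup G) : Set G)) ∣
      (P : Subgroup G).index :=
    ⟨_, (Subgroup.relIndex_mul_index (Subgroup.le_normalizer (H := (P : Subgroup G)))).symm⟩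
  have h3 : Odd (P : Subgroup G).index := Nat.odd_iff.2 (Nat.two_dvd_ne_zero.1 P.not_dvd_index)
  exact h3.of_dvd_nat (h1.trans h2)

/-- A free action has no fixed points, unless it is trivial. -/
theorem fixedPart_eq_bot (hfree : IsFree (P : Subgroup G)) (he1 : ((Subgroup.centralizer ((P : Subgroup G) : Set G)).relIndex (Subgroup.normalizer ((P : Subgroup G) : Set G))) ≠ 1) : fixedPart P = ⊥ := by
  refine (Subgroup.eq_bot_iff_forall _).2 fun v hv => ?_
  by_contra hv1
  exact he1 (Subgroup.relIndex_eq_one.2 fun n hn => hfree n hn v hv.1 hv1 (hv.2 n hn))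

theorem eq_one_of_fix_autN (hfree : IsFree (P : Subgroup G)) (a : autN P) {v : (P : Subgroup G)}
    (hv : v ≠ 1) (h : (a : MulAut (P : Subgroup G)) v = v) : a = 1 := by
  obtain ⟨_, n, rfl⟩ := a
  have h1 : (n : G) * v * (n : G)⁻¹ = v := congrArg Subtype.val h
  have h2 := mem_centralizer_iff_fix.1 (hfree n n.2 v v.2 (fun e => hv (Subtype.ext e)) h1)
  exact Subtype.ext (MulEquiv.ext fun w => Subtype.ext (h2 w w.2))

/-- The involutions of `P` and the identity number one modulo the inertial index. -/
theorem exists_card_sq_eq_one (hfree : IsFree (P : Subgroup G)) :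
    ∃ j : ℕ, Nat.card {v : (P : Subgroup G) // v ^ 2 = 1} = 1 + ((Subgroup.centralizer ((P : Subgroup G) : Set G)).relIndex (Subgroup.normalizer ((P : Subgroup G) : Set G))) * j := by
  classical
  let X : SubMulAction (autN P) (P : Subgroup G) :=
    { carrier := {v | v ^ 2 = 1}
      smul_mem' := fun a v hv => by
        show ((a : MulAut (P : Subgroup G)) v) ^ 2 = 1
        rw [← map_pow, show v ^ 2 = 1 from hv, map_one] }
  set F : Set X := {x | (x : (P : Subgroup G)) = 1}
  obtain ⟨j, hj, -⟩ := card_orbits F (fun x hx a => Subtype.ext (by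
      show (a : MulAut (P : Subgroup G)) (x : (P : Subgroup G)) = x
      rw [show (x : (P : Subgroup G)) = 1 from hx, map_one]))
    (fun x hx a ha => eq_one_of_fix_autN hfree a hx (congrArg Subtype.val ha))
  have hF : F = {⟨1, show (1 : (P : Subgroup G)) ^ 2 = 1 from one_pow 2⟩} := by
    ext x
    exact ⟨fun h => Subtype.ext h, fun h => congrArg Subtype.val h⟩
  rw [hF, Set.ncard_singleton, card_autN] at hj
  exact ⟨j, hj⟩

/-- **Rank and inertial index.** -/
theorem blockRank_free (hM : IsPModular 2 M) (hab : IsMulCommutative (P : Subgroup G))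
    (h16 : Nat.card P ≤ 16) (hfree : IsFree (P : Subgroup G)) :
    blockRank 2 (principalBlock M G) = ((Subgroup.centralizer ((P : Subgroup G) : Set G)).relIndex (Subgroup.normalizer ((P : Subgroup G) : Set G))) := by
  classical
  haveI : Fact (Nat.Prime 2) := ⟨Nat.prime_two⟩
  by_cases he1 : ((Subgroup.centralizer ((P : Subgroup G) : Set G)).relIndex (Subgroup.normalizer ((P : Subgroup G) : Set G))) = 1
  · rw [he1]
    exact PrincipalPair.rank_one_of_hasNormalPComplement hM
      (Transfer.hasNormalPComplement_of_normalizer_le_centralizer P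
        (Subgroup.relIndex_eq_one.1 he1))
  have hodd := odd_relIndex hab
  have hfix := fixedPart_eq_bot hfree he1
  obtain ⟨n, hn, hk⟩ := exists_count hM hab (hfix ▸ bot_le) (fun m hm v hv hv' =>
    hfree m hm v hv fun e => hv' (by rw [e]; exact one_mem _))
  rw [hfix, Subgroup.card_bot] at hn hk
  rw [one_mul] at hk
  obtain ⟨i, hi⟩ := P.2.exists_card_eq
  obtain ⟨j, hj⟩ := exists_card_sq_eq_one hfree
  have hn' : Nat.card P = 1 + ((Subgroup.centralizer ((P : Subgroup G) : Set G)).relIndex (Subgroup.normalizer ((P : Subgroup G) : Set G))) * n := hn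
  -- the possible inertial indices
  have hi4 : i ≤ 4 := by
    by_contra h
    have := Nat.pow_le_pow_right (show 0 < 2 by norm_num) (show 5 ≤ i by omega)
    omega
  have hcases : Nat.card P = 1 ∨ Nat.card P = 2 ∨ Nat.card P = 4 ∨ Nat.card P = 8 ∨
      Nat.card P = 16 := by
    rw [hi]
    interval_cases i <;> norm_num
  have hP1 : Nat.card P ≠ 1 := fun h => he1 (Subgroup.relIndex_eq_one.2 fun m _ =>
    mem_centralizer_iff_fix.2 fun v hv => by
      rw [Subgroup.eq_bot_of_card_eq _ h, Subgroup.mem_bot] at hv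
      rw [hv, mul_one, mul_inv_cancel])
  have he15 : ((Subgroup.centralizer ((P : Subgroup G) : Set G)).relIndex (Subgroup.normalizer ((P : Subgroup G) : Set G))) ≤ 15 := by
    rcases Nat.eq_zero_or_pos n with hn0 | hn0
    · exfalso
      rw [hn0, mul_zero, add_zero] at hn'
      refine he1 (Subgroup.relIndex_eq_one.2 fun m _ => mem_centralizer_iff_fix.2 fun v hv => ?_)
      rw [Subgroup.eq_bot_of_card_eq _ hn', Subgroup.mem_bot] at hv
      rw [hv, mul_one, mul_inv_cancel]
    · have := Nat.le_mul_of_pos_right ((Subgroup.centralizer ((P : Subgroup G) : Set G)).relIndex (Subgroup.normalizer ((P : Subgroup G) : Set G))) hn0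
      omega
  by_cases h163 : Nat.card P = 16 ∧ ((Subgroup.centralizer ((P : Subgroup G) : Set G)).relIndex (Subgroup.normalizer ((P : Subgroup G) : Set G))) = 3
  · obtain ⟨h16', h3⟩ := h163
    haveI := hab
    haveI := Fintype.ofFinite G
    have hfrob : AbelianFrobenius.Frob P := by
      intro y hy hy1
      refine le_antisymm (fun m hm => hfree m hm.2 y hy hy1
        (mul_inv_eq_iff_eq_mul.2 (Subgroup.mem_centralizer_singleton_iff.1 hm.1))) fun m hm => ?_
      exact ⟨Subgroup.mem_centralizer_singleton_iff.2 ((Subgroup.mem_centralizer_iff.1 hm y hy).symm),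
        Subgroup.centralizer_le_normalizer _ hm⟩
    have hA3 : Nat.card (AbelianFrobenius.autP P) = 3 := by rw [AbelianFrobenius.card_autP, h3]
    obtain ⟨χ₂, χ₃, -, -, -, ζ, -, -, -, hinj, h2, h3', h23, hdisj, hB, -, -, -, hcnt, -⟩ :=
      AbelianFrobenius.exists_three_family hM hfrob hA3 (by
        show 4 < Nat.card P
        omega)
    have hr : Nat.card (AbelianFrobenius.Orb (AbelianFrobenius.autP P)) * 3 + 1 = 16 := h16' ▸ hcnt
    haveI : Finite (Set.range ζ) := Subtype.finite
    have hk8 : Nat.card (principalBlock M G) = 8 := by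
      rw [Nat.card_coe_set_eq, hB, Set.ncard_union_eq hdisj (Set.toFinite _) (Set.toFinite _),
        Set.ncard_eq_three.2 ⟨_, χ₂, χ₃, h2.symm, h3'.symm, h23, rfl⟩,
        Set.ncard_range_of_injective hinj]
      omega
    rw [h3] at hn'
    omega
  -- otherwise `P` is elementary abelian
  have hel : ∀ v : P, v ^ 2 = 1 := by
    haveI := hab
    let Ω : Subgroup (P : Subgroup G) :=
      { carrier := {v | v ^ 2 = 1}
        one_mem' := one_pow 2
        mul_mem' := fun {a b} (ha : a ^ 2 = 1) (hb : b ^ 2 = 1) => show (a * b) ^ 2 = 1 by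
          rw [(show Commute a b from hab.is_comm.comm a b).mul_pow, ha, hb, one_mul]
        inv_mem' := fun {a} (ha : a ^ 2 = 1) => show a⁻¹ ^ 2 = 1 by rw [inv_pow, ha, inv_one] }
    have hΩ : Nat.card Ω = 1 + ((Subgroup.centralizer ((P : Subgroup G) : Set G)).relIndex (Subgroup.normalizer ((P : Subgroup G) : Set G))) * j := hj
    have hdvd : Nat.card Ω ∣ Nat.card P := Subgroup.card_subgroup_dvd_card Ω
    have hΩ1 : 1 < Nat.card Ω := by
      have h2 : 2 ∣ Nat.card (P : Subgroup G) := by
        rw [hi]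
        exact dvd_pow_self 2 fun h0 => hP1 (by rw [hi, h0, pow_zero])
      obtain ⟨v, hv⟩ := exists_prime_orderOf_dvd_card' 2 h2
      refine Finite.one_lt_card_iff_nontrivial.2 ⟨⟨⟨v, show v ^ 2 = 1 from orderOf_dvd_iff_pow_eq_one.1 hv.dvd⟩,
        1, fun h => ?_⟩⟩
      have h' : v = 1 := congrArg Subtype.val h
      rw [h', orderOf_one] at hv
      norm_num at hv
    have hfull : Nat.card Ω = Nat.card P := by
      have hle : Nat.card Ω ≤ Nat.card P := Nat.le_of_dvd Nat.card_pos hdvd
      have hΩc : Nat.card Ω = 2 ∨ Nat.card Ω = 4 ∨ Nat.card Ω = 8 ∨ Nat.card Ω = 16 := by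
        rw [hi] at hdvd
        obtain ⟨r, hr, hr'⟩ := (Nat.dvd_prime_pow Nat.prime_two).1 hdvd
        rw [hr'] at hΩ1 ⊢
        have : r ≤ 4 := hr.trans hi4
        interval_cases r <;> norm_num at hΩ1 <;> norm_num
      exact full_of_arith hcases hΩc hle hn' hΩ he15 he1 hodd h163
    intro v
    have htop := Subgroup.eq_top_of_card_eq Ω hfull
    have hv : v ∈ Ω := htop ▸ Subgroup.mem_top v
    exact hv
  rcases hcases with h | h | h | h | h
  · exact absurd h hP1
  · rw [h] at hn'
    have : ((Subgroup.centralizer ((P : Subgroup G) : Set G)).relIndex (Subgroup.normalizer ((P : Subgroup G) : Set G))) * n = 1 := by omega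
    exact absurd (Nat.eq_one_of_mul_eq_one_right this) he1
  · -- the Klein group
    rw [h] at hn'
    have h3 : ((Subgroup.centralizer ((P : Subgroup G) : Set G)).relIndex (Subgroup.normalizer ((P : Subgroup G) : Set G))) = 3 := by
      have hd : ((Subgroup.centralizer ((P : Subgroup G) : Set G)).relIndex (Subgroup.normalizer ((P : Subgroup G) : Set G))) ∣ 3 := ⟨n, by omega⟩
      exact ((Nat.dvd_prime Nat.prime_three).1 hd).resolve_left he1
    rw [h3]
    have htrans : ∀ v w : (P : Subgroup G), v ≠ 1 → w ≠ 1 → IsConj (v : G) w := by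
      intro v w hv hw
      let g : autN P → {u : (P : Subgroup G) // u ≠ 1} := fun a =>
        ⟨(a : MulAut (P : Subgroup G)) v, fun e => hv ((MulEquiv.map_eq_one_iff _).1 e)⟩
      have hg : Function.Injective g := by
        intro a b hab'
        refine inv_mul_eq_one.1 (eq_one_of_fix_autN hfree (a⁻¹ * b) hv ?_)
        rw [Subgroup.coe_mul, Subgroup.coe_inv, MulAut.mul_apply,
          ← (show (a : MulAut (P : Subgroup G)) v = (b : MulAut (P : Subgroup G)) v from
            congrArg Subtype.val hab'), MulAut.inv_apply_self]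
      haveI := Fintype.ofFinite (P : Subgroup G)
      have hc : Nat.card (autN P) = Nat.card {u : (P : Subgroup G) // u ≠ 1} := by
        rw [card_autN, h3, Nat.card_eq_fintype_card, Fintype.card_subtype_compl,
          Fintype.card_subtype_eq, ← Nat.card_eq_fintype_card,
          show Nat.card (P : Subgroup G) = 4 from h]
      obtain ⟨a, ha⟩ := ((Nat.bijective_iff_injective_and_card g).2 ⟨hg, hc⟩).2 ⟨w, hw⟩
      obtain ⟨_, m, rfl⟩ := a
      exact isConj_iff.2 ⟨m, congrArg Subtype.val (congrArg Subtype.val ha)⟩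
    refine Cfsg.Agent.S4512.result M hM P h (fun v => by rw [← pow_two]; exact hel v) ?_
    have hmove : ∀ s : G, orderOf s = 2 → ∃ v : (P : Subgroup G), v ≠ 1 ∧ IsConj s (v : G) := by
      intro s hs
      obtain ⟨Q, hQ⟩ := (IsPGroup.of_card (n := 1) (by rw [Nat.card_zpowers, hs, pow_one]) :
        IsPGroup 2 (Subgroup.zpowers s)).exists_le_sylow
      obtain ⟨g, hg⟩ := MulAction.exists_smul_eq G Q P
      have hs' : g * s * g⁻¹ ∈ (P : Subgroup G) := by
        rw [← hg]
        exact Subgroup.smul_mem_pointwise_smul s (MulAut.conj g) _ (hQ (Subgroup.mem_zpowers s))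
      refine ⟨⟨_, hs'⟩, fun e => ?_, isConj_iff.2 ⟨g, rfl⟩⟩
      have e' : g * s * g⁻¹ = 1 := congrArg Subtype.val e
      rw [mul_inv_eq_one, mul_eq_left] at e'
      rw [e', orderOf_one] at hs
      exact absurd hs (by norm_num)
    intro s r hs hr
    obtain ⟨v, hv, hsv⟩ := hmove s hs
    obtain ⟨w, hw, hrw⟩ := hmove r hr
    exact hsv.trans ((htrans v w hv hw).trans hrw.symm)
  all_goals
    -- reduce modulo the odd core
    set N := pPrimeCore 2 G with hN
    have hker : ¬ 2 ∣ Nat.card (QuotientGroup.mk' N).ker := by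
      rw [QuotientGroup.ker_mk']
      exact Constrained.pPrimeCore_not_dvd
    have hπ := QuotientGroup.mk'_surjective N
    have hsep : ∀ m ∈ Subgroup.normalizer ((P : Subgroup G) : Set G), ∀ v ∈ (P : Subgroup G),
        QuotientGroup.mk' N (m * v * m⁻¹) = QuotientGroup.mk' N v → m * v * m⁻¹ = v :=
      fun m hm v hv e => eq_of_map_eq hker P.2 ((Subgroup.mem_normalizer_iff.1 hm v).1 hv) hv e
    have hfree' : IsFree (P.mapSurjective hπ : Subgroup (G ⧸ N)) :=
      isFree_map hπ P hsep fun m hm v hv hv1 e =>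
        hfree m hm v hv (fun h => hv1 (by rw [h, map_one])) e
    have hel' : ∀ w : P.mapSurjective hπ, w ^ 2 = 1 := by
      intro w
      obtain ⟨v, hv, hvw⟩ : (w : G ⧸ N) ∈ (P : Subgroup G).map (QuotientGroup.mk' N) := by
        rw [← Sylow.coe_mapSurjective hπ]; exact w.2
      refine Subtype.ext ?_
      show (w : G ⧸ N) ^ 2 = 1
      rw [← hvw, ← map_pow,
        show v ^ 2 = 1 from congrArg Subtype.val (hel ⟨v, hv⟩), map_one]
    have hE := blockRank_free_elementary hM hel'
      (by rw [mapSurjective_card hπ hker]; omega) hfree'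
      Constrained.pPrimeCore_quotient_pPrimeCore
      (by rw [relIndex_map hπ P hsep]; exact he1) (by rw [relIndex_map hπ P hsep]; exact he15)
    rw [RankFourNine.blockRank_quotient_pPrimeCore hM, hE, relIndex_map hπ P hsep]

end CfsgLib.Blocks.AbelianSmallTwo
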