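import Cfsg.Agent.Blocks.AbelianSmallTwo.Action
import Cfsg.Agent.Blocks.AbelianSmallTwo.Transfer
import Cfsg.Agent.Blocks.SingleBlock.Criterion
import Cfsg.Agent.Eq.Def_Involutions
import Cfsg.Agent.EarlyCharTwo.Cores
import Cfsg.Agent.LocalCharP.StronglyEmbedded
import Cfsg.Agent.StronglyEmbedded.Criteria
import Cfsg.Agent.SignalizerMethod.Ready
import Cfsg.Agent.Signalizer.ConstrainedBalance
import Cfsg.Agent.CAGroups.Recognition
import Cfsg.Agent.Sl2Classes.Count
import Cfsg.Agent.SlBlocks.Count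
import Cfsg.Agent.Blocks.AbelianSmallTwo.Count
import Cfsg.Agent.Blocks.Defect.Translate
import Cfsg.Agent.S0205
import Cfsg.Agent.S1221

/-!
# Groups with trivial odd core, elementary abelian Sylow `2`-subgroup of order at least eight and
free action of its normalizer

The centralizers of the involutions are Sylow subgroups; hence the group is a Frobenius group or
`SL₂(2ⁿ)`, and the principal block is determined.
-/

set_option autoImplicit false
set_option linter.style.haveILetI false

namespace CfsgLib.Blocks.AbelianSmallTwo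

open Cfsg CfsgLib

universe u

variable {K : Type u} [Group K] [Finite K] {P : Sylow 2 K}

omit [Finite K] in
theorem sylow_le_centralizer (hab : IsMulCommutative (P : Subgroup K)) {a : K}
    (ha : a ∈ (P : Subgroup K)) : (P : Subgroup K) ≤ Subgroup.centralizer ({a} : Set K) :=
  fun x hx => Subgroup.mem_centralizer_singleton_iff.2
    (congrArg Subtype.val (hab.is_comm.comm (⟨x, hx⟩ : (P : Subgroup K)) ⟨a, ha⟩))

/-- With a free action the centralizer of a nonidentity element of `P` has a normal complement. -/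
theorem hasNormalPComplement_centralizer (hab : IsMulCommutative (P : Subgroup K))
    (hfree : IsFree (P : Subgroup K)) {a : K} (ha : a ∈ (P : Subgroup K)) (ha1 : a ≠ 1) :
    HasNormalPComplement 2 (Subgroup.centralizer ({a} : Set K)) := by
  haveI : Fact (Nat.Prime 2) := ⟨Nat.prime_two⟩
  have hPa := sylow_le_centralizer hab ha
  refine Transfer.hasNormalPComplement_of_normalizer_le_centralizer (P.subtype hPa) fun m hm => ?_
  rw [← Sylow.coe_coe, Sylow.coe_subtype P hPa, ← Subgroup.subgroupOf_normalizer_eq hPa,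
    Subgroup.mem_subgroupOf] at hm
  have hc := hfree m hm a ha ha1
    (mul_inv_eq_iff_eq_mul.2 (Subgroup.mem_centralizer_singleton_iff.1 m.2))
  rw [Subgroup.mem_centralizer_iff] at hc ⊢
  intro x hx
  rw [← Sylow.coe_coe, Sylow.coe_subtype P hPa] at hx
  exact Subtype.ext (hc _ hx)

/-- **Centralizers of involutions.** -/
theorem centralizer_eq_sylow (hel : ∀ v : P, v ^ 2 = 1) (h8 : 8 ≤ Nat.card P)
    (hab : IsMulCommutative (P : Subgroup K)) (hfree : IsFree (P : Subgroup K))
    (hO : pPrimeCore 2 K = ⊥) {a : K} (ha : a ∈ (P : Subgroup K)) (ha1 : a ≠ 1) :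
    Subgroup.centralizer ({a} : Set K) = (P : Subgroup K) := by
  classical
  haveI : Fact (Nat.Prime 2) := ⟨Nat.prime_two⟩
  have hsq : ∀ x ∈ (P : Subgroup K), x ^ 2 = 1 := fun x hx => congrArg Subtype.val (hel ⟨x, hx⟩)
  have hPc : ∀ x ∈ (P : Subgroup K), ∀ y ∈ (P : Subgroup K), x * y = y * x := fun x hx y hy =>
    congrArg Subtype.val (hab.is_comm.comm (⟨x, hx⟩ : (P : Subgroup K)) ⟨y, hy⟩)
  -- the elements of odd order of a centralizer form its core
  have hcore : ∀ b ∈ (P : Subgroup K), b ≠ 1 → ∀ z : Subgroup.centralizer ({b} : Set K),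
      (orderOf z).Coprime 2 → (z : K) ∈ centralizerPPrimeCore 2 b := by
    intro b hb hb1 z hz
    obtain ⟨N, hN, hc, k, hk⟩ := Transfer.hasNormalPComplement_iff_exists.1
      (hasNormalPComplement_centralizer hab hfree hb hb1)
    haveI := hN
    exact ⟨z, (le_sSup ⟨hN, hc⟩ : N ≤ pPrimeCore 2 _)
      ((Transfer.mem_iff_coprime_of_pPower_index hc hk z).2 hz), rfl⟩
  set θ : K → Subgroup K := fun a => centralizerPPrimeCore 2 a
  have hθodd : ∀ a, Odd (Nat.card (θ a)) := fun a =>
    Nat.odd_iff.2 (Nat.two_dvd_ne_zero.1 (Signalizer.centralizerPPrimeCore_not_dvd a))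
  obtain ⟨hWp, hWmeet⟩ := SignalizerMethod.signalizerFunctor (P : Subgroup K) hPc hsq
    (by simpa using h8) θ
    (fun a _ _ => Signalizer.centralizerPPrimeCore_le a)
    (fun a _ _ => Signalizer.centralizerPPrimeCore_not_dvd a)
    (fun a ha _ b hb x hx => (Subgroup.mem_normalizer_iff.mp
      (Signalizer.le_normalizer_centralizerPPrimeCore a (sylow_le_centralizer hab ha hb)) x).mp hx)
    (fun a _ _ => Cfsg.Agent.S0205.result (hθodd a))
    (fun a _ _ b hb hb1 x hx => hcore b hb hb1 ⟨x, hx.2⟩ (by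
      rw [Subgroup.orderOf_mk]
      exact Nat.Coprime.coprime_dvd_left (Subgroup.orderOf_dvd_natCard _ hx.1)
        (Nat.coprime_two_right.2 (hθodd a))))
  set W : Subgroup K := ⨆ a : {a : K // a ∈ (P : Subgroup K) ∧ a ≠ 1}, θ a with hW
  set NP := Subgroup.normalizer ((P : Subgroup K) : Set K) with hNP
  have hNW : NP ≤ Subgroup.normalizer (W : Set K) := by
    have key : ∀ g ∈ NP, ∀ x ∈ W, g * x * g⁻¹ ∈ W := by
      intro g hg x hx
      have hle : W ≤ W.comap (MulAut.conj g).toMonoidHom := iSup_le fun a y hy =>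
        Subgroup.mem_comap.mpr (Subgroup.mem_iSup_of_mem
          (⟨g * a.1 * g⁻¹, (Subgroup.mem_normalizer_iff.mp hg _).mp a.2.1, fun h => a.2.2 (by
            rwa [mul_inv_eq_one, mul_eq_left] at h)⟩ : {a : K // a ∈ (P : Subgroup K) ∧ a ≠ 1})
          (EarlyCharTwo.map_conj_centralizerPPrimeCore_le g a.1 ⟨y, hy, rfl⟩))
      exact hle hx
    intro g hg
    rw [Subgroup.mem_normalizer_iff]
    refine fun x => ⟨key g hg x, fun hx => ?_⟩
    have := key g⁻¹ (inv_mem hg) _ hx
    simpa [mul_assoc] using this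
  set Mx : Subgroup K := W ⊔ NP with hMx
  -- centralizers lie in `Mx`
  have hCM : ∀ b ∈ (P : Subgroup K), b ≠ 1 → Subgroup.centralizer ({b} : Set K) ≤ Mx := by
    intro b hb hb1 c hc
    obtain ⟨N, hN, hN'⟩ := Transfer.exists_isComplement'
      (hasNormalPComplement_centralizer hab hfree hb hb1) (P.subtype (sylow_le_centralizer hab hb))
    obtain ⟨⟨n, p⟩, he⟩ := hN'.2 (⟨c, hc⟩ : Subgroup.centralizer ({b} : Set K))
    have he' : ((n : Subgroup.centralizer ({b} : Set K)) : K) *
        ((p : Subgroup.centralizer ({b} : Set K)) : K) = c := congrArg Subtype.val he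
    rw [← he']
    refine mul_mem (Subgroup.mem_sup_left (Subgroup.mem_iSup_of_mem
      (⟨b, hb, hb1⟩ : {a : K // a ∈ (P : Subgroup K) ∧ a ≠ 1}) (hcore b hb hb1 _ ?_)))
      (Subgroup.mem_sup_right (Subgroup.le_normalizer p.2))
    exact Nat.Coprime.coprime_dvd_left (Subgroup.orderOf_dvd_natCard _ n.2)
      (Transfer.coprime_of_not_dvd (by
        rw [← hN'.index_eq_card]; exact (P.subtype _).not_dvd_index))
  -- hence `W` is trivial
  have hWbot : W = ⊥ := by
    have hWodd : (Nat.card W).Coprime 2 := Transfer.coprime_of_not_dvd hWp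
    by_cases hMtop : Mx = ⊤
    · have hWn : W.Normal := by
        rw [← Subgroup.normalizer_eq_top_iff, eq_top_iff, ← hMtop]
        exact sup_le Subgroup.le_normalizer hNW
      exact le_bot_iff.1 (hO ▸ le_sSup ⟨hWn, hWodd⟩)
    · have hSE : IsStronglyEmbedded Mx := by
        refine StronglyEmbedded.isStronglyPEmbedded_two_iff.1
          (LocalCharP.isStronglyPEmbedded_intro
            (((orderOf_eq_prime (hsq a ha) ha1).symm ▸ orderOf_dvd_natCard a)) hMtop P ?_)
        intro Q hQP hQ1 n hn
        obtain ⟨q, hq, hq1⟩ := (Subgroup.bot_or_exists_ne_one Q).resolve_left hQ1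
        have hq' : n * q * n⁻¹ ∈ (P : Subgroup K) :=
          hQP ((Subgroup.mem_normalizer_iff.mp hn q).mp hq)
        have hq'1 : n * q * n⁻¹ ≠ 1 := fun h => hq1 (by
          rwa [mul_inv_eq_one, mul_eq_left] at h)
        set C := Subgroup.centralizer ({n * q * n⁻¹} : Set K)
        have hnPC : ((n • P : Sylow 2 K) : Subgroup K) ≤ C := by
          intro x hx
          obtain ⟨y, hy, rfl⟩ :=
            (show x ∈ (P : Subgroup K).map (MulAut.conj n).toMonoidHom from hx)
          refine Subgroup.mem_centralizer_singleton_iff.mpr ?_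
          show n * y * n⁻¹ * (n * q * n⁻¹) = n * q * n⁻¹ * (n * y * n⁻¹)
          rw [conj_mul, conj_mul, hPc y hy q (hQP hq)]
        obtain ⟨c, hc⟩ := MulAction.exists_smul_eq C
          ((n • P : Sylow 2 K).subtype hnPC) (P.subtype (sylow_le_centralizer hab hq'))
        rw [Sylow.smul_subtype] at hc
        have hc2 := Sylow.subtype_injective hc
        have hcn : (c : K) * n ∈ NP := by
          refine Sylow.smul_eq_iff_mem_normalizer.mp ?_
          rw [mul_smul]
          exact hc2
        rw [show n = (c : K)⁻¹ * ((c : K) * n) by group]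
        exact mul_mem (inv_mem (hCM _ hq' hq'1 c.2)) (Subgroup.mem_sup_right hcn)
      have h1 := Cfsg.Agent.S1221.result Mx hSE
      have hodd : oddCore K ≤ pPrimeCore 2 K := le_of_eq rfl
      haveI hWn : (W.subgroupOf Mx).Normal :=
        (Subgroup.normal_subgroupOf_iff_le_normalizer le_sup_left).2
          (sup_le Subgroup.le_normalizer hNW)
      refine le_bot_iff.1 fun w hw => ?_
      have h2 : (⟨w, Subgroup.mem_sup_left hw⟩ : Mx) ∈ oddCore Mx :=
        (le_sSup ⟨hWn, by
          rw [Nat.card_congr (Subgroup.subgroupOfEquivOfLe (le_sup_left : W ≤ Mx)).toEquiv]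
          exact hWodd⟩ : W.subgroupOf Mx ≤ pPrimeCore 2 Mx) hw
      have h3 : w ∈ oddCore K := h1 (Subgroup.mem_map_of_mem Mx.subtype h2)
      have h4 := hodd h3
      rwa [hO] at h4
  refine le_antisymm (fun c hc => ?_) (sylow_le_centralizer hab ha)
  obtain ⟨N, hN, hN'⟩ := Transfer.exists_isComplement'
    (hasNormalPComplement_centralizer hab hfree ha ha1) (P.subtype (sylow_le_centralizer hab ha))
  obtain ⟨⟨n, p⟩, he⟩ := hN'.2 (⟨c, hc⟩ : Subgroup.centralizer ({a} : Set K))
  have hn1 : ((n : Subgroup.centralizer ({a} : Set K)) : K) = 1 := by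
    have hnW : ((n : Subgroup.centralizer ({a} : Set K)) : K) ∈ W :=
      Subgroup.mem_iSup_of_mem (⟨a, ha, ha1⟩ : {a : K // a ∈ (P : Subgroup K) ∧ a ≠ 1})
        (hcore a ha ha1 _ (Nat.Coprime.coprime_dvd_left (Subgroup.orderOf_dvd_natCard _ n.2)
          (Transfer.coprime_of_not_dvd (by
            rw [← hN'.index_eq_card]; exact (P.subtype _).not_dvd_index))))
    rwa [hWbot, Subgroup.mem_bot] at hnW
  have he' : ((n : Subgroup.centralizer ({a} : Set K)) : K) *
      ((p : Subgroup.centralizer ({a} : Set K)) : K) = c := congrArg Subtype.val he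
  rw [← he', hn1, one_mul]
  exact p.2

omit [Finite K] in
/-- The index of a centralizer is the size of the class. -/
theorem index_centralizer_eq (x : K) :
    (Subgroup.centralizer ({x} : Set K)).index = (conjugatesOf x).ncard := by
  rw [← Nat.card_coe_set_eq]
  refine Nat.card_eq_of_bijective (Quotient.lift
    (fun g => (⟨g * x * g⁻¹, isConj_iff.mpr ⟨g, rfl⟩⟩ : conjugatesOf x)) ?_) ⟨?_, ?_⟩
  · intro g g' hgg'
    have h1 := Subgroup.mem_centralizer_singleton_iff.mp (QuotientGroup.leftRel_apply.mp hgg')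
    refine Subtype.ext ?_
    show g * x * g⁻¹ = g' * x * g'⁻¹
    have h2 : g' * x = g * x * (g⁻¹ * g') := by
      rw [mul_assoc g x, ← h1]; group
    rw [h2]; group
  · rintro ⟨g⟩ ⟨g'⟩ e
    have e' : g * x * g⁻¹ = g' * x * g'⁻¹ := congrArg Subtype.val e
    apply Quotient.sound
    refine QuotientGroup.leftRel_apply.mpr (Subgroup.mem_centralizer_singleton_iff.mpr ?_)
    calc g⁻¹ * g' * x = g⁻¹ * (g' * x * g'⁻¹) * g' := by group
      _ = g⁻¹ * (g * x * g⁻¹) * g' := by rw [e']
      _ = x * (g⁻¹ * g') := by group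
  · rintro ⟨y, hy⟩
    obtain ⟨g, rfl⟩ := isConj_iff.mp hy
    exact ⟨QuotientGroup.mk g, rfl⟩

/-- The principal block of a Frobenius group with kernel `P` and abelian complement. -/
theorem natCard_principal_of_normal {M : Ideal AlgInt} (hM : IsPModular 2 M)
    [(P : Subgroup K).Normal]
    (hC : ∀ a ∈ (P : Subgroup K), a ≠ 1 →
      Subgroup.centralizer ({a} : Set K) = (P : Subgroup K))
    (hP1 : (P : Subgroup K) ≠ ⊥)
    (hcomm : ∀ x y : K ⧸ (P : Subgroup K), x * y = y * x) :
    ∃ n, Nat.card P = 1 + (P : Subgroup K).index * n ∧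
      Nat.card (principalBlock M K) = (P : Subgroup K).index + n := by
  classical
  haveI : Fact (Nat.Prime 2) := ⟨Nat.prime_two⟩
  haveI := Fintype.ofFinite K
  obtain ⟨⟨a₀, ha₀⟩, ha₀1⟩ := Subgroup.ne_bot_iff_exists_ne_one.1 hP1
  have ha₀1' : a₀ ≠ 1 := fun e => ha₀1 (Subtype.ext e)
  have hall : Nat.card (principalBlock M K) = Nat.card (ConjClasses K) := by
    rw [← Chars.card_irrCharacter]
    exact Nat.card_congr ((Equiv.setCongr (Set.eq_univ_of_forall
      (SingleBlock.mem_principalBlock_of_normal hM P.2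
        ((Subgroup.centralizer_le (Set.singleton_subset_iff.2 ha₀)).trans (hC a₀ ha₀ ha₀1').le)))).trans
      (Equiv.Set.univ _))
  set e := (P : Subgroup K).index
  set q := Nat.card P
  have hout : ∀ x : K, x ∉ (P : Subgroup K) →
      Nat.card (Subgroup.centralizer ({x} : Set K)) = e := by
    intro x hx
    set f : ↥(P : Subgroup K) → K := fun u => (u : K) * x * (u : K)⁻¹ with hf
    have hinj : Function.Injective f := by
      intro u v huv
      by_contra hne
      apply hx
      rw [← hC _ (mul_mem (inv_mem v.2) u.2) fun h => hne (Subtype.ext (inv_mul_eq_one.1 h).symm),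
        Subgroup.mem_centralizer_singleton_iff]
      have h' : (u : K) * x * (u : K)⁻¹ = v * x * (v : K)⁻¹ := huv
      calc x * ((v : K)⁻¹ * u) = (v : K)⁻¹ * (v * x * (v : K)⁻¹) * u := by group
        _ = (v : K)⁻¹ * (u * x * (u : K)⁻¹) * u := by rw [h']
        _ = (v : K)⁻¹ * u * x := by group
    set S : Set K := (fun g => g * x) '' ((P : Subgroup K) : Set K) with hS
    have hsub : conjugatesOf x ⊆ S := by
      intro y hy
      obtain ⟨g, rfl⟩ := isConj_iff.1 hy
      refine ⟨g * x * g⁻¹ * x⁻¹, ?_, by group⟩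
      rw [SetLike.mem_coe, ← QuotientGroup.eq_one_iff, QuotientGroup.mk_mul, QuotientGroup.mk_mul,
        QuotientGroup.mk_mul, QuotientGroup.mk_inv, QuotientGroup.mk_inv, hcomm (g : K ⧸ _) x,
        mul_inv_cancel_right, mul_inv_cancel]
    have hcard : (conjugatesOf x).ncard = q := by
      refine le_antisymm ?_ ?_
      · refine (Set.ncard_le_ncard hsub (Set.toFinite _)).trans ?_
        rw [hS, Set.ncard_image_of_injective _ (mul_left_injective x), ← Nat.card_coe_set_eq]
        exact le_rfl
      · rw [show q = (Set.range f).ncard by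
          rw [Set.ncard_range_of_injective hinj]]
        refine Set.ncard_le_ncard ?_ (Set.toFinite _)
        rintro _ ⟨u, rfl⟩
        exact isConj_iff.2 ⟨u, rfl⟩
    have h1 := (Subgroup.centralizer ({x} : Set K)).card_mul_index
    rw [index_centralizer_eq x, hcard,
      ← (P : Subgroup K).index_mul_card] at h1
    exact Nat.eq_of_mul_eq_mul_right Nat.card_pos h1
  have hsum : ∑ x : K, Nat.card (Subgroup.centralizer ({x} : Set K)) =
      Nat.card (ConjClasses K) * Nat.card K := by
    rw [← card_comm_eq_card_conjClasses_mul_card, Nat.card_congr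
      (Equiv.subtypeProdEquivSigmaSubtype (p := fun x y : K => Commute x y)), Nat.card_sigma]
    refine Finset.sum_congr rfl fun x _ => Nat.card_congr (Equiv.subtypeEquivRight fun y => ?_)
    rw [Subgroup.mem_centralizer_singleton_iff]
    exact ⟨fun h => h.symm, fun h => h.symm⟩
  rw [← Finset.sum_filter_add_sum_filter_not Finset.univ (fun x : K => x ∈ (P : Subgroup K)),
    Finset.sum_congr (g := fun _ => e) (s₂ := Finset.univ.filter (fun x => x ∉ (P : Subgroup K)))
      rfl (fun x hx => hout x (Finset.mem_filter.1 hx).2),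
    ← Finset.add_sum_erase _ _ (Finset.mem_filter.2 ⟨Finset.mem_univ 1, one_mem _⟩),
    Finset.sum_congr (g := fun _ => q) rfl (fun x hx => by
      obtain ⟨hx1, hx2⟩ := Finset.mem_erase.1 hx
      rw [hC x (Finset.mem_filter.1 hx2).2 hx1]),
    Finset.sum_const, Finset.sum_const, smul_eq_mul, smul_eq_mul,
    Finset.card_erase_of_mem (Finset.mem_filter.2 ⟨Finset.mem_univ 1, one_mem _⟩),
    show Subgroup.centralizer ({(1 : K)} : Set K) = ⊤ from eq_top_iff.2 fun g _ =>
      Subgroup.mem_centralizer_singleton_iff.2 (by simp), Subgroup.card_top,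
    ← Fintype.card_subtype, ← Fintype.card_subtype, Fintype.card_subtype_compl,
    ← Nat.card_eq_fintype_card, ← Nat.card_eq_fintype_card,
    ← (P : Subgroup K).card_mul_index] at hsum
  have hq1 : 1 ≤ q := Nat.card_pos
  have he1 : 1 ≤ e := Nat.pos_of_ne_zero Subgroup.index_ne_zero_of_finite
  rw [← hall] at hsum
  set k := Nat.card (principalBlock M K)
  have hsum' : q * e + (q - 1) * q + (q * e - q) * e = k * (q * e) := by
    rw [← hsum]
  have hqe : q ≤ q * e := Nat.le_mul_of_pos_right _ he1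
  have h2 : (q : ℤ) * (e + (q - 1) + (e - 1) * e) = (q : ℤ) * (k * e) := by
    have := congrArg (fun t : ℕ => (t : ℤ)) hsum'
    push_cast [Nat.cast_sub hq1, Nat.cast_sub hqe] at this
    linear_combination this
  have h3 := mul_left_cancel₀ (by omega) h2
  have h4 : (q : ℤ) - 1 = (e : ℤ) * (k - e) := by linear_combination h3
  have hke : e ≤ k := by
    by_contra h
    push Not at h
    have : (1 : ℤ) ≤ (e : ℤ) - k := by omega
    nlinarith [this, (by exact_mod_cast he1 : (1 : ℤ) ≤ e), (by exact_mod_cast hq1 : (1 : ℤ) ≤ q)]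
  refine ⟨k - e, ?_, by omega⟩
  have : (q : ℤ) = ((1 + e * (k - e) : ℕ) : ℤ) := by
    push_cast [Nat.cast_sub hke]
    linarith
  exact_mod_cast this

/-- The principal block of `SL₂(q)`, `q` even, omits exactly the Steinberg character. -/
theorem natCard_principal_sl2 {M : Ideal AlgInt} (hM : IsPModular 2 M) {F : Type} [Field F]
    [Fintype F] [CharP F 2] (e : K ≃* Matrix.SpecialLinearGroup (Fin 2) F) :
    Nat.card (principalBlock M K) = Fintype.card F := by
  classical
  haveI : Fact (Nat.Prime 2) := ⟨Nat.prime_two⟩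
  haveI := isMaximal_of_isPModular hM
  let S := SlBlocks.SLG 1 F
  haveI := Fintype.ofFinite K
  have heven : 2 ∣ Fintype.card F := by
    obtain ⟨n, -, hn⟩ := FiniteField.card F 2
    exact hn ▸ dvd_pow_self 2 n.pos.ne'
  have hblocks : Nat.card {B : Set (IrrCharacter S) // IsPBlock M B} = 2 := by
    rw [SlBlocks.card_blocks (m := 1) (p := 2) hM Nat.one_pos]
    have hq := Fintype.one_lt_card (α := F)
    rw [Nat.Coprime.gcd_eq_one ((Nat.prime_two.coprime_iff_not_dvd).2 (by omega))]
  have hSeven : 2 ∣ Nat.card S := by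
    let t : S := ⟨!![1, 1; 0, 1], by simp [Matrix.det_fin_two]⟩
    have ht : orderOf t = 2 := by
      refine orderOf_eq_prime ?_ ?_
      · refine Subtype.ext ?_
        rw [pow_two, Matrix.SpecialLinearGroup.coe_mul]
        ext i j
        fin_cases i <;> fin_cases j <;>
          simp [t, Matrix.mul_apply, Fin.sum_univ_two, CharTwo.add_self_eq_zero]
      · intro ht
        have := congrArg (fun g : S => (g : Matrix (Fin 2) (Fin 2) F) 0 1) ht
        simp [t] at this
    exact ht ▸ orderOf_dvd_natCard t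
  have hst : SlBlocks.stIrr 1 F ≠ Chars.oneChar S := by
    intro h
    have h1 := SlBlocks.charDegree_stIrr (m := 1) (F := F) (p := 2)
    rw [h, Chars.charDegree_eq_of_map_one (n := 1) (by simp [Chars.oneChar_apply])] at h1
    have := Nat.prime_two.factorization_pos_of_dvd Nat.card_pos.ne' hSeven
    exact absurd h1.symm (Nat.one_lt_pow this.ne' one_lt_two).ne'
  have hstB : IsPBlock M ({SlBlocks.stIrr 1 F} : Set (IrrCharacter S)) :=
    ⟨SlBlocks.stIrr 1 F, (SlBlocks.blockOf_stIrr (p := 2) hM).symm⟩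
  set B₀ : Set (IrrCharacter S) := mapBlock e (principalBlock M K) with hB₀
  have hB₀b : IsPBlock M B₀ := isPBlock_mapBlock e (PrincipalLinear.isPBlock_principal M)
  have hB₀1 : Chars.oneChar S ∈ B₀ := ⟨Chars.oneChar K, oneChar_mem_principalBlock,
    Subtype.ext (funext fun g => by simp [Chars.irrEquiv_apply, Chars.oneChar_apply])⟩
  have hne : B₀ ≠ {SlBlocks.stIrr 1 F} := fun h => hst (by
    rw [h, Set.mem_singleton_iff] at hB₀1
    exact hB₀1.symm)
  have hall : ∀ χ : IrrCharacter S, χ ≠ SlBlocks.stIrr 1 F → χ ∈ B₀ := by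
    intro χ hχ
    haveI : Finite {B : Set (IrrCharacter S) // IsPBlock M B} :=
      Nat.finite_of_card_ne_zero (by omega)
    set C : {B : Set (IrrCharacter S) // IsPBlock M B} :=
      ⟨blockOf M (χ : S → ℂ), χ, rfl⟩ with hC
    obtain ⟨A, B, hAB, huniv⟩ := Nat.card_eq_two_iff.1 hblocks
    have hmem : ∀ X : {B : Set (IrrCharacter S) // IsPBlock M B}, X = A ∨ X = B := fun X => by
      have : X ∈ ({A, B} : Set _) := huniv.symm ▸ Set.mem_univ X
      simpa using this
    have h1 := hmem ⟨B₀, hB₀b⟩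
    have h2 := hmem ⟨_, hstB⟩
    have h3 := hmem C
    have hCst : C ≠ ⟨_, hstB⟩ := fun h => hχ (by
      have := self_mem_blockOf (M := M) χ
      rw [show blockOf M (χ : S → ℂ) = {SlBlocks.stIrr 1 F} from congrArg Subtype.val h] at this
      exact this)
    have hne' : (⟨B₀, hB₀b⟩ : {B : Set (IrrCharacter S) // IsPBlock M B}) ≠ ⟨_, hstB⟩ :=
      fun h => hne (congrArg Subtype.val h)
    have hC0 : C = ⟨B₀, hB₀b⟩ := by
      rcases h1 with h1 | h1 <;> rcases h2 with h2 | h2 <;> rcases h3 with h3 | h3 <;>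
        simp_all
    have := self_mem_blockOf (M := M) χ
    rwa [show blockOf M (χ : S → ℂ) = B₀ from congrArg Subtype.val hC0] at this
  have hB₀eq : B₀ = Set.univ \ {SlBlocks.stIrr 1 F} := by
    ext χ
    simp only [Set.mem_diff, Set.mem_univ, true_and, Set.mem_singleton_iff]
    refine ⟨fun h hχ => hne ?_, hall χ⟩
    rw [eq_blockOf_of_mem hB₀b h, hχ, SlBlocks.blockOf_stIrr (p := 2) hM]
  haveI : Finite (IrrCharacter S) := inferInstance
  rw [Nat.card_coe_set_eq, ← Set.ncard_image_of_injective _ (Chars.irrEquiv e).injective]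
  change B₀.ncard = _
  rw [hB₀eq, Set.ncard_diff (Set.subset_univ _), Set.ncard_univ, Chars.card_irrCharacter,
    Set.ncard_singleton]
  show Nat.card (ConjClasses (Matrix.SpecialLinearGroup (Fin 2) F)) - 1 = _
  rw [Sl2Classes.card_conjClasses_even]
  rfl

/-- **The elementary case.** -/
theorem blockRank_free_elementary {M : Ideal AlgInt} (hM : IsPModular 2 M)
    (hel : ∀ v : P, v ^ 2 = 1) (h8 : 8 ≤ Nat.card P) (hfree : IsFree (P : Subgroup K))
    (hO : pPrimeCore 2 K = ⊥)
    (he1 : (Subgroup.centralizer ((P : Subgroup K) : Set K)).relIndex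
      (Subgroup.normalizer ((P : Subgroup K) : Set K)) ≠ 1)
    (he : (Subgroup.centralizer ((P : Subgroup K) : Set K)).relIndex
      (Subgroup.normalizer ((P : Subgroup K) : Set K)) ≤ 15) :
    blockRank 2 (principalBlock M K) = (Subgroup.centralizer ((P : Subgroup K) : Set K)).relIndex
      (Subgroup.normalizer ((P : Subgroup K) : Set K)) := by
  classical
  haveI : Fact (Nat.Prime 2) := ⟨Nat.prime_two⟩
  have hab : IsMulCommutative (P : Subgroup K) := ⟨⟨fun a b => by
    have h : ∀ c : (P : Subgroup K), orderOf c ∣ 2 := fun c => orderOf_dvd_of_pow_eq_one (hel c)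
    exact Commute.of_orderOf_dvd_two h a b⟩⟩
  have hC : ∀ a ∈ (P : Subgroup K), a ≠ 1 →
      Subgroup.centralizer ({a} : Set K) = (P : Subgroup K) :=
    fun a ha ha1 => centralizer_eq_sylow hel h8 hab hfree hO ha ha1
  set CP := Subgroup.centralizer ((P : Subgroup K) : Set K)
  set NP := Subgroup.normalizer ((P : Subgroup K) : Set K)
  have hP1 : (P : Subgroup K) ≠ ⊥ := fun h => by
    have h1 : Nat.card P = 1 := Subgroup.card_eq_one.2 h
    omega
  obtain ⟨⟨a₀, ha₀⟩, ha₀1⟩ := Subgroup.ne_bot_iff_exists_ne_one.1 hP1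
  have hCP : CP = (P : Subgroup K) := by
    refine le_antisymm ?_ fun x hx => Subgroup.mem_centralizer_iff.2 fun y hy =>
      congrArg Subtype.val (hab.is_comm.comm (⟨y, hy⟩ : (P : Subgroup K)) ⟨x, hx⟩)
    exact (Subgroup.centralizer_le (Set.singleton_subset_iff.2 ha₀)).trans
      (hC a₀ ha₀ fun e => ha₀1 (Subtype.ext e)).le
  -- no nonidentity fixed points
  have hfix : fixedPart P = ⊥ := by
    refine (Subgroup.eq_bot_iff_forall _).2 fun v hv => ?_
    by_contra hv1
    refine he1 (Subgroup.relIndex_eq_one.2 fun n hn => ?_)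
    exact hfree n hn v hv.1 hv1 (hv.2 n hn)
  obtain ⟨n, hn, hk⟩ := exists_count hM hab (hfix ▸ bot_le) (fun n hn v hv hv' =>
    hfree n hn v hv fun e => hv' (by rw [e]; exact one_mem _))
  rw [hfix, Subgroup.card_bot, one_mul] at hk
  rw [hfix, Subgroup.card_bot] at hn
  change Nat.card P = 1 + CP.relIndex NP * n at hn
  have hepos : 0 < CP.relIndex NP := Nat.pos_of_ne_zero Subgroup.index_ne_zero_of_finite
  suffices h : Nat.card (principalBlock M K) = CP.relIndex NP + n by omega
  by_cases hnorm : (P : Subgroup K).Normal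
  · haveI := hnorm
    have hNP : NP = ⊤ := Subgroup.normalizer_eq_top_iff.2 hnorm
    have hidx : CP.relIndex NP = (P : Subgroup K).index := by
      rw [hNP, Subgroup.relIndex_top_right, hCP]
    have hodd : Odd (Nat.card (K ⧸ (P : Subgroup K))) := by
      rw [← Subgroup.index_eq_card]
      exact Nat.odd_iff.2 (Nat.two_dvd_ne_zero.1 P.not_dvd_index)
    obtain ⟨m, hm, hkm⟩ := natCard_principal_of_normal hM hC hP1
      (comm_of_odd_card_le hodd (by rw [← Subgroup.index_eq_card, ← hidx]; exact he))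
    rw [← hidx] at hm hkm
    have : m = n := Nat.eq_of_mul_eq_mul_left hepos (by omega)
    omega
  have hord : ∀ t : K, orderOf t = 2 → IsMulCommutative (Subgroup.centralizer ({t} : Set K)) ∧
      ∀ c ∈ Subgroup.centralizer ({t} : Set K), c ^ 2 = 1 := by
    intro t ht
    obtain ⟨Q, hQ⟩ := (IsPGroup.of_card (n := 1) (by rw [Nat.card_zpowers, ht, pow_one]) :
      IsPGroup 2 (Subgroup.zpowers t)).exists_le_sylow
    obtain ⟨g, hg⟩ := MulAction.exists_smul_eq K Q P
    have ht' : g * t * g⁻¹ ∈ (P : Subgroup K) := by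
      rw [← hg]
      exact Subgroup.smul_mem_pointwise_smul t (MulAut.conj g) _ (hQ (Subgroup.mem_zpowers t))
    have ht1 : g * t * g⁻¹ ≠ 1 := fun h => by
      rw [mul_inv_eq_one, mul_eq_left] at h
      rw [h, orderOf_one] at ht
      exact absurd ht (by norm_num)
    have hcP : ∀ c ∈ Subgroup.centralizer ({t} : Set K), g * c * g⁻¹ ∈ (P : Subgroup K) := by
      intro c hc
      rw [← hC _ ht' ht1, Subgroup.mem_centralizer_singleton_iff, conj_mul, conj_mul,
        Subgroup.mem_centralizer_singleton_iff.1 hc]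
    have hsq : ∀ c ∈ Subgroup.centralizer ({t} : Set K), c ^ 2 = 1 := by
      intro c hc
      have h : (g * c * g⁻¹) ^ 2 = 1 := congrArg Subtype.val (hel ⟨_, hcP c hc⟩)
      rwa [conj_pow, mul_inv_eq_one, mul_eq_left] at h
    exact ⟨⟨⟨fun a b => Commute.of_orderOf_dvd_two (fun c => orderOf_dvd_of_pow_eq_one
      (Subtype.ext (hsq c c.2))) a b⟩⟩, hsq⟩
  have hyp : StronglyEmbedded.AbelianCentralizer.Hyp P := by
    refine ⟨fun hcyc => ?_, hnorm, hord⟩
    have hdvd : Monoid.exponent (P : Subgroup K) ∣ 2 :=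
      Monoid.exponent_dvd_of_forall_pow_eq_one hel
    rw [IsCyclic.exponent_eq_card] at hdvd
    have := Nat.le_of_dvd two_pos hdvd
    omega
  obtain ⟨F, iF, iF', hchar, hF, ⟨e⟩⟩ := CAGroups.nonempty_mulEquiv_sl2 hyp
  haveI := hchar
  have hk' := natCard_principal_sl2 hM e
  rw [hF] at hk'
  have hNcard : Nat.card NP = Nat.card P * (Nat.card P - 1) :=
    StronglyEmbedded.AbelianCentralizer.card_normalizer hyp
  have hrel : CP.relIndex NP = Nat.card P - 1 := by
    have h := (CP.subgroupOf NP).card_mul_index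
    rw [hCP, Nat.card_congr (Subgroup.subgroupOfEquivOfLe Subgroup.le_normalizer).toEquiv,
      hNcard] at h
    rw [hCP]
    exact Nat.eq_of_mul_eq_mul_left Nat.card_pos h
  have hn1 : n = 1 := by
    refine Nat.eq_of_mul_eq_mul_left hepos ?_
    omega
  omega

end CfsgLib.Blocks.AbelianSmallTwo
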