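import Cfsg.Agent.Blocks.AbelianSmallTwo.Free
import Cfsg.Agent.Blocks.AbelianSmallTwo.Central
import Cfsg.Agent.S4569
import Cfsg.Agent.S4571

/-!
# Abelian Sylow `2`-subgroups of order eight and sixteen with an involution whose centralizer has a
principal block of rank one
-/

set_option autoImplicit false
set_option linter.style.haveILetI false

namespace CfsgLib.Blocks.AbelianSmallTwo

open Cfsg CfsgLib

universe u

variable {G : Type u} [Group G] [Finite G] {M : Ideal AlgInt} {P : Sylow 2 G}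

/-- Rank one at a nonidentity `x` bounds the inertial index. -/
theorem relIndex_le_fifteen (hM : IsPModular 2 M) (hab : IsMulCommutative (P : Subgroup G))
    (h16 : Nat.card P ≤ 16) {x : G} (hxP : x ∈ (P : Subgroup G)) (hx1 : x ≠ 1)
    (hl : blockRank 2 (principalBlock M ↥(Subgroup.centralizer ({x} : Set G))) = 1) :
    (Subgroup.centralizer ((P : Subgroup G) : Set G)).relIndex
      (Subgroup.normalizer ((P : Subgroup G) : Set G)) ≤ 15 := by
  classical
  haveI : Fact (Nat.Prime 2) := ⟨Nat.prime_two⟩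
  set C := Subgroup.centralizer ({x} : Set G) with hC
  have hPC : (P : Subgroup G) ≤ C := fun z hz => Subgroup.mem_centralizer_singleton_iff.2
    (congrArg Subtype.val (hab.is_comm.comm (⟨z, hz⟩ : (P : Subgroup G)) ⟨x, hxP⟩))
  obtain ⟨N, hN, hc⟩ := Transfer.exists_isComplement'
    (PrincipalPair.hasNormalPComplement_of_rank_one hM hl) (P.subtype hPC)
  have hfix : ∀ n ∈ Subgroup.normalizer ((P : Subgroup G) : Set G), n * x * n⁻¹ = x →
      n ∈ Subgroup.centralizer ((P : Subgroup G) : Set G) := by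
    intro n hn hnx
    rw [mem_centralizer_iff_fix]
    intro v hv
    obtain ⟨⟨k, y⟩, hky⟩ := hc.2 (⟨n, Subgroup.mem_centralizer_singleton_iff.2
      (mul_inv_eq_iff_eq_mul.1 hnx)⟩ : C)
    have hky' : ((k : C) : G) * ((y : C) : G) = n := congrArg Subtype.val hky
    have hy : ((y : C) : G) ∈ (P : Subgroup G) := y.2
    have hyv : ((y : C) : G) * v * ((y : C) : G)⁻¹ = v := mul_inv_eq_iff_eq_mul.2
      (congrArg Subtype.val (hab.is_comm.comm (⟨_, hy⟩ : (P : Subgroup G)) ⟨v, hv⟩))
    have hconj : n * v * n⁻¹ = ((k : C) : G) * v * ((k : C) : G)⁻¹ := by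
      rw [← hky']
      conv_rhs => rw [← hyv]
      group
    have hmem : (⟨v, hPC hv⟩ : C)⁻¹ * ((k : C) * ⟨v, hPC hv⟩ * (k : C)⁻¹) ∈
        N ⊓ ((P.subtype hPC : Sylow 2 C) : Subgroup C) := by
      refine ⟨?_, ?_⟩
      · have h := N.mul_mem (hN.conj_mem _ k.2 (⟨v, hPC hv⟩ : C)⁻¹) (N.inv_mem k.2)
        simpa [mul_assoc] using h
      · show v⁻¹ * (((k : C) : G) * v * ((k : C) : G)⁻¹) ∈ (P : Subgroup G)
        rw [← hconj]
        exact mul_mem (inv_mem hv) ((Subgroup.mem_normalizer_iff.1 hn v).1 hv)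
    rw [hc.disjoint.eq_bot, Subgroup.mem_bot, inv_mul_eq_one] at hmem
    rw [hconj]
    exact (congrArg Subtype.val hmem).symm
  let g : autN P → {u : (P : Subgroup G) // u ≠ 1} := fun a =>
    ⟨(a : MulAut (P : Subgroup G)) ⟨x, hxP⟩,
      fun e => hx1 (congrArg Subtype.val ((MulEquiv.map_eq_one_iff _).1 e))⟩
  have hg : Function.Injective g := by
    intro a b hab'
    obtain ⟨_, m, rfl⟩ := a
    obtain ⟨_, n, rfl⟩ := b
    have e : (m : G) * x * (m : G)⁻¹ = (n : G) * x * (n : G)⁻¹ :=
      congrArg Subtype.val (congrArg Subtype.val hab')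
    have hc' := hfix ((n : G)⁻¹ * m) (mul_mem (inv_mem n.2) m.2) (by
      calc (n : G)⁻¹ * m * x * ((n : G)⁻¹ * m)⁻¹
          = (n : G)⁻¹ * ((m : G) * x * (m : G)⁻¹) * n := by group
        _ = x := by rw [e]; group)
    refine Subtype.ext (MulEquiv.ext fun v => Subtype.ext ?_)
    show (m : G) * v * (m : G)⁻¹ = (n : G) * v * (n : G)⁻¹
    have h2 := mem_centralizer_iff_fix.1 hc' v v.2
    calc (m : G) * v * (m : G)⁻¹
        = (n : G) * ((n : G)⁻¹ * m * v * ((n : G)⁻¹ * m)⁻¹) * (n : G)⁻¹ := by group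
      _ = (n : G) * v * (n : G)⁻¹ := by rw [h2]
  haveI := Fintype.ofFinite (P : Subgroup G)
  have hle := Nat.card_le_card_of_injective g hg
  rw [card_autN, Nat.card_eq_fintype_card, Fintype.card_subtype_compl, Fintype.card_subtype_eq,
    ← Nat.card_eq_fintype_card] at hle
  omega

/-- **The count when the odd core is trivial.** -/
theorem count_core_free (hM : IsPModular 2 M) (hab : IsMulCommutative (P : Subgroup G))
    (hO : pPrimeCore 2 G = ⊥) (hP : Nat.card P = 8 ∨ Nat.card P = 16)
    (he : (Subgroup.centralizer ((P : Subgroup G) : Set G)).relIndex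
      (Subgroup.normalizer ((P : Subgroup G) : Set G)) ≤ 15) :
    (Nat.card P = 8 → Nat.card (principalBlock M G) = 8) ∧
      (Nat.card P = 16 → Nat.card (principalBlock M G) = 8 ∨ Nat.card (principalBlock M G) = 16) := by
  classical
  haveI : Fact (Nat.Prime 2) := ⟨Nat.prime_two⟩
  letI : CommGroup (P : Subgroup G) :=
    { (P : Subgroup G).toGroup with mul_comm := hab.is_comm.comm }
  have h16 : Nat.card P ≤ 16 := by omega
  have hodd : Odd (Nat.card (autN P)) := by rw [card_autN]; exact odd_relIndex hab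
  have hcomm : ∀ s ∈ autN P, ∀ t ∈ autN P, s * t = t * s := fun s hs t ht =>
    congrArg Subtype.val (comm_of_odd_card_le hodd (by rw [card_autN]; exact he)
      (⟨s, hs⟩ : autN P) ⟨t, ht⟩)
  have hfixmem : ∀ v : (P : Subgroup G),
      v ∈ fixSub (autN P : Set (MulAut (P : Subgroup G))) ↔ (v : G) ∈ fixedPart P := by
    intro v
    rw [mem_fixSub, mem_fixedPart]
    refine ⟨fun h => ⟨v.2, fun n hn => congrArg Subtype.val (h _ ⟨⟨n, hn⟩, rfl⟩)⟩, ?_⟩
    rintro h _ ⟨n, rfl⟩
    exact Subtype.ext (h.2 n n.2)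
  rcases free_or_nine P.2 h16 hodd hcomm with hfree0 | ⟨hc16, hel, h9⟩
  swap
  · have h := (Cfsg.Agent.S4569.result M hM P hc16 hel (by rw [← card_autN]; exact h9)).1
    exact ⟨fun h8 => by omega, fun _ => Or.inr h⟩
  have hfree : ∀ n ∈ Subgroup.normalizer ((P : Subgroup G) : Set G), ∀ v ∈ (P : Subgroup G),
      v ∉ fixedPart P → n * v * n⁻¹ = v →
        n ∈ Subgroup.centralizer ((P : Subgroup G) : Set G) := by
    intro n hn v hv hvC e
    set t := (P : Subgroup G).normalizerMonoidHom ⟨n, hn⟩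
    have ht : t = 1 := by
      by_contra ht
      exact hvC ((hfixmem ⟨v, hv⟩).1 (hfree0 t ⟨_, rfl⟩ ht ⟨v, hv⟩ (Subtype.ext e)))
    rw [mem_centralizer_iff_fix]
    intro w hw
    exact congrArg Subtype.val (DFunLike.congr_fun ht (⟨w, hw⟩ : (P : Subgroup G)))
  have hcen := fixedPart_le_center hab hO
  obtain ⟨n, hn, hk⟩ := exists_count hM hab hcen hfree
  -- the rank, computed modulo the fixed part
  haveI hCn : (fixedPart P).Normal := ⟨fun z hz g => by
    rw [Subgroup.mem_center_iff.1 (hcen hz) g, mul_inv_cancel_right]; exact hz⟩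
  have hπ := QuotientGroup.mk'_surjective (fixedPart P)
  have hsep : ∀ m ∈ Subgroup.normalizer ((P : Subgroup G) : Set G), ∀ v ∈ (P : Subgroup G),
      QuotientGroup.mk' (fixedPart P) (m * v * m⁻¹) = QuotientGroup.mk' (fixedPart P) v →
        m * v * m⁻¹ = v := by
    intro m hm v hv e
    have hmem : v⁻¹ * (m * v * m⁻¹) ∈ fixedPart P := QuotientGroup.eq.1 e.symm
    set t := (P : Subgroup G).normalizerMonoidHom ⟨m, hm⟩
    exact congrArg Subtype.val (apply_eq_of_inv_mul_mem P.2
      (odd_orderOf hodd (⟨_, rfl⟩ : t ∈ autN P))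
      (D := fixSub (autN P : Set (MulAut (P : Subgroup G)))) (fun d hd => hd t ⟨_, rfl⟩)
      (v := (⟨v, hv⟩ : (P : Subgroup G))) ((hfixmem _).2 hmem))
  set T := P.mapSurjective hπ
  have hT16 : Nat.card T ≤ 16 := by
    refine le_trans ?_ h16
    show Nat.card ((P.mapSurjective hπ : Sylow 2 (G ⧸ fixedPart P)) : Subgroup (G ⧸ fixedPart P)) ≤ _
    rw [Sylow.coe_mapSurjective]
    exact Nat.card_le_card_of_surjective
      (fun v => ⟨_, v, v.2, rfl⟩ : ↥(P : Subgroup G) →
        ↥((P : Subgroup G).map (QuotientGroup.mk' (fixedPart P))))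
      (by rintro ⟨_, v, hv, rfl⟩; exact ⟨⟨v, hv⟩, rfl⟩)
  have hTab : IsMulCommutative (T : Subgroup (G ⧸ fixedPart P)) := by
    refine ⟨⟨fun a b => Subtype.ext ?_⟩⟩
    have key : ∀ c : (T : Subgroup (G ⧸ fixedPart P)),
        (c : G ⧸ fixedPart P) ∈ (P : Subgroup G).map (QuotientGroup.mk' (fixedPart P)) :=
      fun c => Sylow.coe_mapSurjective hπ P ▸ c.2
    obtain ⟨a', ha, hae⟩ := key a
    obtain ⟨b', hb, hbe⟩ := key b
    show (a : G ⧸ fixedPart P) * b = b * a
    rw [← hae, ← hbe, ← map_mul, ← map_mul]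
    exact congrArg _ (congrArg Subtype.val
      (hab.is_comm.comm (⟨a', ha⟩ : (P : Subgroup G)) ⟨b', hb⟩))
  have hTfree : IsFree (T : Subgroup (G ⧸ fixedPart P)) :=
    isFree_map hπ P hsep fun m hm v hv hv1 e =>
      hfree m hm v hv (fun h => hv1 ((QuotientGroup.eq_one_iff _).2 h)) e
  have hL : blockRank 2 (principalBlock M G) = (Subgroup.centralizer ((P : Subgroup G) : Set G)).relIndex
      (Subgroup.normalizer ((P : Subgroup G) : Set G)) := by
    rw [Cfsg.Agent.S4571.result 2 M hM (fixedPart P) (P.2.to_le (fixedPart_le P))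
      (eq_top_iff.2 fun y _ => Subgroup.mem_sup_right (Subgroup.mem_centralizer_iff.2 fun q hq =>
        (Subgroup.mem_center_iff.1 (hcen hq) y).symm)),
      blockRank_free hM hTab hT16 hTfree, relIndex_map hπ P hsep]
  rw [hL] at hk
  set e := (Subgroup.centralizer ((P : Subgroup G) : Set G)).relIndex
      (Subgroup.normalizer ((P : Subgroup G) : Set G)) with hedef
  set c := Nat.card (fixedPart P) with hcdef
  -- the fixed part has index at least four unless the action is trivial
  have hidx : e ≠ 1 → 4 * c ≤ Nat.card P := by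
    intro he1
    set D := fixSub (autN P : Set (MulAut (P : Subgroup G)))
    have hDc : Nat.card D = c := Nat.card_congr
      { toFun := fun v => ⟨(v : (P : Subgroup G)), (hfixmem _).1 v.2⟩
        invFun := fun v => ⟨⟨v, fixedPart_le P v.2⟩, (hfixmem _).2 v.2⟩
        left_inv := fun v => rfl
        right_inv := fun v => rfl }
    have hi : 2 < D.index := by
      by_contra h
      push Not at h
      refine he1 ?_
      rw [hedef, ← card_autN, Nat.card_eq_one_iff_unique]
      refine ⟨⟨fun a b => Subtype.ext (MulEquiv.ext fun v => ?_)⟩, ⟨1⟩⟩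
      rw [fixes_of_index_le_two P.2 (odd_orderOf hodd a.2) (D := D) (fun d hd => hd _ a.2) h v,
        fixes_of_index_le_two P.2 (odd_orderOf hodd b.2) (D := D) (fun d hd => hd _ b.2) h v]
    have hmul := D.card_mul_index
    obtain ⟨i, hi'⟩ := IsPGroup.iff_card.1 P.2
    obtain ⟨r, -, hr⟩ := (Nat.dvd_prime_pow Nat.prime_two).1
      ((Dvd.intro_left _ hmul).trans hi'.dvd)
    have hr2 : 2 ≤ r := by
      by_contra h
      push Not at h
      rw [hr] at hi
      interval_cases r <;> omega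
    have h4 : 4 ≤ D.index := hr ▸ Nat.pow_le_pow_right two_pos hr2
    have : Nat.card D * 4 ≤ Nat.card D * D.index := Nat.mul_le_mul_left _ h4
    omega
  obtain ⟨t, ht⟩ := odd_relIndex hab
  rw [← hedef] at ht
  by_cases he1 : e = 1
  · rw [he1, one_mul] at hn
    rw [he1, mul_one] at hk
    exact ⟨fun h => by omega, fun h => by omega⟩
  have h4c := hidx he1
  have hcpos : 0 < c := Nat.card_pos
  have hc4 : c ≤ 4 := by omega
  have ht7 : t ≤ 7 := by omega
  have hc3 : c ≠ 3 := by
    intro h3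
    have hd : c ∣ Nat.card P := Subgroup.card_dvd_of_le (fixedPart_le P)
    rw [h3] at hd
    omega
  refine ⟨fun h => ?_, fun h => ?_⟩ <;>
    · rw [ht] at hn hk he1
      interval_cases c <;> interval_cases t <;> norm_num at hn hk ⊢ <;> omega

/-- **The statement with the involution in the Sylow subgroup.** -/
theorem count_of_rank_one (hM : IsPModular 2 M) (hab : IsMulCommutative (P : Subgroup G))
    (hP : Nat.card P = 8 ∨ Nat.card P = 16) {x : G} (hxP : x ∈ (P : Subgroup G)) (hx1 : x ≠ 1)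
    (hl : blockRank 2 (principalBlock M ↥(Subgroup.centralizer ({x} : Set G))) = 1) :
    (Nat.card P = 8 → Nat.card (principalBlock M G) = 8) ∧
      (Nat.card P = 16 → Nat.card (principalBlock M G) = 8 ∨ Nat.card (principalBlock M G) = 16) := by
  classical
  haveI : Fact (Nat.Prime 2) := ⟨Nat.prime_two⟩
  have he := relIndex_le_fifteen hM hab (by omega) hxP hx1 hl
  set N := pPrimeCore 2 G
  have hker : ¬ 2 ∣ Nat.card (QuotientGroup.mk' N).ker := by
    rw [QuotientGroup.ker_mk']
    exact Constrained.pPrimeCore_not_dvd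
  have hπ := QuotientGroup.mk'_surjective N
  have hsep : ∀ m ∈ Subgroup.normalizer ((P : Subgroup G) : Set G), ∀ v ∈ (P : Subgroup G),
      QuotientGroup.mk' N (m * v * m⁻¹) = QuotientGroup.mk' N v → m * v * m⁻¹ = v :=
    fun m hm v hv e => eq_of_map_eq hker P.2 ((Subgroup.mem_normalizer_iff.1 hm v).1 hv) hv e
  have hab' : IsMulCommutative (P.mapSurjective hπ : Subgroup (G ⧸ N)) := by
    refine ⟨⟨fun a b => Subtype.ext ?_⟩⟩
    have key : ∀ c : (P.mapSurjective hπ : Subgroup (G ⧸ N)),
        (c : G ⧸ N) ∈ (P : Subgroup G).map (QuotientGroup.mk' N) :=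
      fun c => Sylow.coe_mapSurjective hπ P ▸ c.2
    obtain ⟨a', ha, hae⟩ := key a
    obtain ⟨b', hb, hbe⟩ := key b
    show (a : G ⧸ N) * b = b * a
    rw [← hae, ← hbe, ← map_mul, ← map_mul]
    exact congrArg _ (congrArg Subtype.val
      (hab.is_comm.comm (⟨a', ha⟩ : (P : Subgroup G)) ⟨b', hb⟩))
  have hcard := mapSurjective_card hπ hker P
  have h := count_core_free (P := P.mapSurjective hπ) hM hab'
    Constrained.pPrimeCore_quotient_pPrimeCore (by rw [hcard]; exact hP)
    (by rw [relIndex_map hπ P hsep]; exact he)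
  rw [hcard, ← natCard_principal_quotient hM N Constrained.pPrimeCore_not_dvd] at h
  exact h

end CfsgLib.Blocks.AbelianSmallTwo
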